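import Groth.Agent.Fano.K714.RatTop
import Groth.Agent.Fano.K276.QuartFin
import Groth.Agent.Fano.K419.QuartGood

/-!
# Elliptic quartics on a smooth cubic threefold: assembly

From the classification (node QA), the regularity (node QD), the irreducibility of the space of decompositions
(node QE1) and the existence of a smooth member (node QE2) the locus of smooth elliptic quartics in the Hilbert
scheme is irreducible, and the Hilbert scheme is regular of dimension eight at its points.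
-/

set_option autoImplicit false
universe u
open CategoryTheory CategoryTheory.Limits AlgebraicGeometry TopologicalSpace Opposite

namespace K430.QuartAsm

open Groth.Agent.Fano Groth.Agent.Fano.K714 Groth.Agent.Fano.K714.Rat Groth.Agent.Fano.K714.Quart

variable {k : Type u} [Field k]

/-- The class of a decomposition in the Hilbert scheme is unique. -/
theorem isClassQ_unique {f : LefPen.Form 4 k 3} {H : Over (Spec (CommRingCat.of k))} {Z : FGA.HilbSet (ps f) H}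
    (hH : FGA.HilbRepresentedBy (ps f) H Z) {q : Data k} {x x' : ↥H.left}
    (h : IsClassQ f H Z q x) (h' : IsClassQ f H Z q x') : x = x' := by
  obtain ⟨g, rfl, hg⟩ := h
  obtain ⟨g', rfl, hg'⟩ := h'
  obtain rfl := RatTop.hom_unique hH (hg.trans hg'.symm)
  rfl

variable [IsAlgClosed k]

/-- A good decomposition has a class in the Hilbert scheme. -/
theorem exists_isClassQ (f : LefPen.Form 4 k 3) (H : Over (Spec (CommRingCat.of k)))
    (Z : FGA.HilbSet (ps f) H) (hH : FGA.HilbRepresentedBy (ps f) H Z) (q : Data k) (hq : q ∈ Sol f)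
    (hgood : Good q) : ∃ x, IsClassQ f H Z q x := by
  obtain ⟨i, hi, hcl, hker, -, hpr, -, -⟩ := K419.QuartGood.of_good f q hq hgood
  have hid : Spec.map (CommRingCat.ofHom (RingHom.id k)) = 𝟙 (Spec (CommRingCat.of k)) := by
    rw [CommRingCat.ofHom_id, Spec.map_id]
  have hjw : i ≫ ps f = (i ≫ ps f) ≫ Spec.map (CommRingCat.ofHom (RingHom.id k)) := by
    rw [hid, Category.comp_id]
  have hflat : Flat (i ≫ ps f) := inferInstance
  have hcl' : IsClosedImmersion (pullback.lift i (i ≫ ps f) hjw) := by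
    have : IsClosedImmersion (pullback.lift i (i ≫ ps f) hjw ≫
        pullback.fst (ps f) (Spec.map (CommRingCat.ofHom (RingHom.id k)))) := by
      rw [pullback.lift_fst]; exact hcl
    have hs : IsSeparated (pullback.fst (ps f) (Spec.map (CommRingCat.ofHom (RingHom.id k)))) := inferInstance
    exact IsClosedImmersion.of_comp _ (pullback.fst (ps f) (Spec.map (CommRingCat.ofHom (RingHom.id k))))
  obtain ⟨g, hg⟩ := K276.QuartFin.famToHilb (ps f) H Z hH k (RingHom.id k) (i ≫ ps f) i hjw hcl'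
  have hm : Spec.map (CommRingCat.ofHom (RingHom.id k)) ≫ Spec.map (CommRingCat.ofHom (RingHom.id k)) =
      𝟙 (Spec (CommRingCat.of k)) := by rw [hid, Category.comp_id]
  have hpb : IsPullback (𝟙 (cI q).subscheme) (i ≫ ps f) (i ≫ ps f)
      (Spec.map (CommRingCat.ofHom (RingHom.id k))) := by
    rw [hid]
    exact IsPullback.of_horiz_isIso ⟨by simp⟩
  refine ⟨_, _, rfl, (hg (RingHom.id k) hm _ (i ≫ ps f) (𝟙 _) hpb).trans ?_⟩
  rw [Category.id_comp, hker]

theorem smooth_and_dim_of_ker {C P : Scheme.{u}} (g : C ⟶ P) [IsClosedImmersion g] {S : Scheme.{u}} (t : P ⟶ S)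
    (hsm : Smooth (g ≫ t)) (hdim : topologicalKrullDim C = 1) (I : P.IdealSheafData) (hI : g.ker = I) :
    Smooth (I.subschemeι ≫ t) ∧ topologicalKrullDim ↥I.subscheme = 1 := by
  subst hI
  have : IsIso g.toImage := inferInstance
  have e : g.ker.subschemeι ≫ t = inv g.toImage ≫ g ≫ t := by
    rw [IsIso.eq_inv_comp, ← Category.assoc]
    exact congrArg (· ≫ t) g.toImage_imageι
  refine ⟨?_, ?_⟩
  · rw [e]
    infer_instance
  · rw [← hdim]
    exact (IsHomeomorph.topologicalKrullDim_eq _ (asIso g.toImage).schemeIsoToHomeo.isHomeomorph).symm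

/-- The smooth elliptic quartics are the classes of the good decompositions. -/
theorem locus_eq (f : LefPen.Form 4 k 3)
    (QA : ∀ (C : Scheme.{u}) (p : C ⟶ Spec (CommRingCat.of k)) (i : C ⟶ Xf f) (_ : IsClosedImmersion i)
      (_ : i ≫ ps f = p) (_ : Smooth p) (_ : IsProper p) (_ : IsIntegral C)
      (_ : topologicalKrullDim C = 1) (_ : @Curv2.genus k _ C ⟨p⟩ = 1)
      (_ : @Curv2.deg k _ C ⟨p⟩ ((Scheme.Modules.pullback (i ≫ emb f)).obj
        (Twist.twistProjSpace 4 k 1)) 1 = 4),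
      ∃ q ∈ Sol f, (i ≫ emb f).ker = cI q)
    (H : Over (Spec (CommRingCat.of k))) (Z : FGA.HilbSet (ps f) H) :
    {x | ∃ (h : Over.mk (𝟙 (Spec (CommRingCat.of k))) ⟶ H) (C : Scheme.{u}) (p : C ⟶ Spec (CommRingCat.of k))
      (i : C ⟶ (LefPen.hypIdeal f).subscheme),
      x = h.left.base (IsLocalRing.closedPoint k) ∧ IsClosedImmersion i ∧
      i ≫ (LefPen.hypIdeal f).subschemeι ≫ CohB1.ProjSpace.toSpec 4 k = p ∧
      Smooth p ∧ IsProper p ∧ IsIntegral C ∧ topologicalKrullDim C = 1 ∧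
      @Curv2.genus k _ C ⟨p⟩ = 1 ∧
      @Curv2.deg k _ C ⟨p⟩ ((Scheme.Modules.pullback (i ≫ (LefPen.hypIdeal f).subschemeι)).obj
        (Twist.twistProjSpace 4 k 1)) 1 = 4 ∧
      FGA.hilbPull ((LefPen.hypIdeal f).subschemeι ≫ CohB1.ProjSpace.toSpec 4 k) h Z.1 =
        i.ker.comap (pullback.fst ((LefPen.hypIdeal f).subschemeι ≫ CohB1.ProjSpace.toSpec 4 k)
          (Over.mk (𝟙 (Spec (CommRingCat.of k)))).hom)} =
      {x : ↥H.left | ∃ q ∈ Sol f, Good q ∧ IsClassQ f H Z q x} := by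
  ext x
  constructor
  · rintro ⟨h, C, p, i, hx, hcl, hip, hsm, hpr, hint, hdim, hg, hdeg, hpull⟩
    obtain ⟨q, hq, hker⟩ := QA C p i hcl hip hsm hpr hint hdim hg hdeg
    have hcl' : IsClosedImmersion (i ≫ emb f) := inferInstance
    have hk : i.ker = (cI q).comap (emb f) := by
      rw [← hker]
      exact (Groth.Agent.Fcompl.H545.SysBasic.comap_ker_comp i (emb f)).symm
    have hgood : Good q := smooth_and_dim_of_ker (i ≫ emb f) (CohB1.ProjSpace.toSpec 4 k)
      (by rw [Category.assoc]; exact hip ▸ hsm) hdim _ hker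
    exact ⟨q, hq, hgood, h, hx, by rw [hpull, hk]⟩
  · rintro ⟨q, hq, hgood, h, hx, hpull⟩
    obtain ⟨i, hi, hcl, hker, hint, hpr, hg, hdeg⟩ := K419.QuartGood.of_good f q hq hgood
    refine ⟨h, _, i ≫ ps f, i, hx, hcl, rfl, ?_, hpr, hint, hgood.2, hg, hdeg, by rw [hpull, hker]⟩
    have h1 := hgood.1
    rw [← hi] at h1
    exact h1

/-- The statement of `S16527` from the nodes QA, QD, QE1, QE2. -/
theorem main [CharZero k] (f : LefPen.Form 4 k 3)
    (QA : ∀ (C : Scheme.{u}) (p : C ⟶ Spec (CommRingCat.of k)) (i : C ⟶ Xf f) (_ : IsClosedImmersion i)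
      (_ : i ≫ ps f = p) (_ : Smooth p) (_ : IsProper p) (_ : IsIntegral C)
      (_ : topologicalKrullDim C = 1) (_ : @Curv2.genus k _ C ⟨p⟩ = 1)
      (_ : @Curv2.deg k _ C ⟨p⟩ ((Scheme.Modules.pullback (i ≫ emb f)).obj
        (Twist.twistProjSpace 4 k 1)) 1 = 4),
      ∃ q ∈ Sol f, (i ≫ emb f).ker = cI q)
    (QE1 : ∀ G G' : MvPolynomial ((Fin 3 × Fin 5) ⊕ (Fin 3 × Fin 5 × Fin 5)) k,
      (∃ q ∈ Sol f, MvPolynomial.eval (coord q) G ≠ 0) →
      (∃ q ∈ Sol f, MvPolynomial.eval (coord q) G' ≠ 0) →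
      ∃ q ∈ Sol f, MvPolynomial.eval (coord q) G ≠ 0 ∧ MvPolynomial.eval (coord q) G' ≠ 0)
    (QE2 : ∃ q ∈ Sol f, Good q)
    (H : Over (Spec (CommRingCat.of k))) (Z : FGA.HilbSet (ps f) H) (hH : FGA.HilbRepresentedBy (ps f) H Z)
    (QD : ∀ q ∈ Sol f, Good q → ∀ x : ↥H.left, IsClassQ f H Z q x →
      IsRegularLocalRing (H.left.presheaf.stalk x) ∧ ringKrullDim (H.left.presheaf.stalk x) = 8)
    (T : Set ↥H.left)
    (hT : T = {x | ∃ (h : Over.mk (𝟙 (Spec (CommRingCat.of k))) ⟶ H) (C : Scheme.{u}) (p : C ⟶ Spec (CommRingCat.of k))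
      (i : C ⟶ (LefPen.hypIdeal f).subscheme),
      x = h.left.base (IsLocalRing.closedPoint k) ∧ IsClosedImmersion i ∧
      i ≫ (LefPen.hypIdeal f).subschemeι ≫ CohB1.ProjSpace.toSpec 4 k = p ∧
      Smooth p ∧ IsProper p ∧ IsIntegral C ∧ topologicalKrullDim C = 1 ∧
      @Curv2.genus k _ C ⟨p⟩ = 1 ∧
      @Curv2.deg k _ C ⟨p⟩ ((Scheme.Modules.pullback (i ≫ (LefPen.hypIdeal f).subschemeι)).obj
        (Twist.twistProjSpace 4 k 1)) 1 = 4 ∧
      FGA.hilbPull ((LefPen.hypIdeal f).subschemeι ≫ CohB1.ProjSpace.toSpec 4 k) h Z.1 =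
        i.ker.comap (pullback.fst ((LefPen.hypIdeal f).subschemeι ≫ CohB1.ProjSpace.toSpec 4 k)
          (Over.mk (𝟙 (Spec (CommRingCat.of k)))).hom)}) :
    IsIrreducible T ∧ ∀ x ∈ T, IsRegularLocalRing (H.left.presheaf.stalk x) ∧
      ringKrullDim (H.left.presheaf.stalk x) = 8 := by
  have hT' := hT.trans (locus_eq f QA H Z)
  clear hT
  subst hT'
  refine ⟨⟨?_, ?_⟩, ?_⟩
  · obtain ⟨q, hq, hgood⟩ := QE2
    obtain ⟨x, hx⟩ := exists_isClassQ f H Z hH q hq hgood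
    exact ⟨x, q, hq, hgood, hx⟩
  · rintro A A' hA hA' ⟨x, ⟨q, hq, hgood, hx⟩, hxA⟩ ⟨x', ⟨q', hq', hgood', hx'⟩, hxA'⟩
    obtain ⟨G, hG, h1⟩ := K276.QuartFin.exists_poly_of_mem_openQ f H Z hH ⟨A, hA⟩ hq hgood hx hxA
    obtain ⟨G', hG', h1'⟩ := K276.QuartFin.exists_poly_of_mem_openQ f H Z hH ⟨A', hA'⟩ hq' hgood' hx' hxA'
    obtain ⟨q₁, hq₁, h2, h3⟩ := QE1 G G' ⟨q, hq, hG⟩ ⟨q', hq', hG'⟩
    obtain ⟨hgood₁, y, hy, hPy⟩ := h1 q₁ hq₁ h2
    obtain ⟨-, y', hy', hPy'⟩ := h1' q₁ hq₁ h3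
    obtain rfl := isClassQ_unique hH hPy hPy'
    exact ⟨y, ⟨q₁, hq₁, hgood₁, hPy⟩, hy, hy'⟩
  · rintro x ⟨q, hq, hgood, hx⟩
    exact QD q hq hgood x hx

end K430.QuartAsm
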